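import Cfsg.Agent.H797.T5.HeSev
import Cfsg.Agent.H868.HeFi24
import Cfsg.Agent.CpAutFiSeven.None
import Cfsg.Agent.Schreier.FiTwentyFour

/-!
# The weak pair row of `Fi24'` at `p = 7` (helper797)

The Held group is a subgroup of index prime to 7.
-/

set_option autoImplicit false

namespace Cfsg.Agent.H797.T5.Fi24Sev

open Subgroup Cfsg

theorem allPairs : AllPairs 7 Spor.Fi24' := by
  have h7 : Fact (Nat.Prime 7) := ⟨by norm_num⟩
  have hfin : Finite Spor.Fi24' := Schreier.FiTwentyFour.finite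
  obtain ⟨ψ, hψ⟩ := H868.HeFi24.exists_embedding
  have hle : ∀ x, ψ x ∈ commutator Spor.Fi24 :=
    Fischer.HeInFi24.he_range_le ψ (commutator Spor.Fi24) Fischer.Fi24Final.index_commutator
  let φ : Spor.He →* Spor.Fi24' := ψ.codRestrict (commutator Spor.Fi24) hle
  have hφ : Function.Injective φ := fun a b h => hψ (congrArg Subtype.val h)
  have e : Spor.He ≃* φ.range := MonoidHom.ofInjective hφ
  refine AllPairs.of_sylow (K := φ.range) ?_ (HeSev.allPairs.congr e.symm)
  have h1 := φ.range.card_mul_index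
  rw [← Nat.card_congr e.toEquiv, FixBN.HeStab.card_he, Schreier.FiTwentyFour.card_eq] at h1
  omega

/-- **The row of `Fi24'`.** -/
theorem fi24 (K : Type*) [Group K] [Finite K] [IsSimpleGroup K] (h : Spor.IsoFi24' K) : H533.T5.WRow 7 K := by
  obtain ⟨e⟩ := h
  refine row_of_model ?_ CpAutFiSeven.autInner allPairs e
  intro hc
  apply Schreier.FiTwentyFour.not_comm
  exact ⟨⟨fun a b => e.symm.injective (by rw [map_mul, map_mul]; exact hc.is_comm.comm _ _)⟩⟩

end Cfsg.Agent.H797.T5.Fi24Sev
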