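import Cfsg.Agent.H797.T5.PslSev
import Cfsg.Agent.KFacts.ON.Cent
import Cfsg.Agent.CpAutON.Seven

/-!
# The weak pair row of the O'Nan group at `p = 7` (helper797)

`PSL₃(7)` is a subgroup of index prime to 7.
-/

set_option autoImplicit false

namespace Cfsg.Agent.H797.T5.ONSev

open Subgroup Cfsg

theorem allPairs : AllPairs 7 Spor.ON := by
  have hfin : Finite Spor.ON := KFacts.ON.Cent.finite_ON
  obtain ⟨N, hN, hi, ⟨e⟩⟩ := SporRec.ONAssembly.exists_normal SporRec.ONLower.ab_ne_one
  have hH := SporRec.ONAssembly.card_H SporRec.ONLower.ab_ne_one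
  have h1 := N.card_mul_index
  rw [hi, hH, Nat.card_congr e.toEquiv] at h1
  have hc : Nat.card (Matrix.ProjectiveSpecialLinearGroup (Fin 3) (ZMod 7)) = 1876896 := by omega
  have h2 := (PslSev.allPairs hc).congr e
  have hidx : SporRec.ONAssembly.H.index = 122760 := by
    rw [← ONType.RepOrb.H_eq]
    exact KFacts.ON.Cent.hidx
  -- the pairs of `H`, then of `ON`
  have h3 : AllPairs 7 SporRec.ONAssembly.H := h2.of_sylow (by rw [hi]; norm_num)
  exact h3.of_sylow (by rw [hidx]; norm_num)

/-- **The row of the O'Nan group.** -/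
theorem on (K : Type*) [Group K] [Finite K] [IsSimpleGroup K] (h : Spor.IsoON K) : H533.T5.WRow 7 K := by
  obtain ⟨e⟩ := h
  refine row_of_model ?_ (CpAutON.Seven.autInner (by norm_num) (by norm_num)) allPairs e
  intro hc
  apply CpAutON.Seven.not_comm
  exact ⟨⟨fun a b => e.symm.injective (by rw [map_mul, map_mul]; exact hc.is_comm.comm _ _)⟩⟩

end Cfsg.Agent.H797.T5.ONSev
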