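import Cfsg.Agent.H797.T5.MCong
import Cfsg.Agent.H797.T5.Fi24Sev
import Cfsg.Agent.H797.T5.ONSev

/-!
# The middle rows of `He`, `Fi24'`, `ON` at `p = 7` (helper797)
-/

set_option autoImplicit false
set_option maxRecDepth 100000

namespace Cfsg.Agent.H797.T5.HeM

open Subgroup Cfsg
open Cfsg.Spor.He (Gen)
open Cfsg.Agent.SporadicB.HePerm hiding wd
open Cfsg.Agent.SporadicB.HePerm (act wd)
open Cfsg.Agent.FixBN.HeStab Cfsg.Agent.KFacts.He.Lv Cfsg.Agent.CpAutHe.Cnt
open Cfsg.Agent.FixBN.HeCent (P₁ P₂ Z P₁_pow P₂_pow Z_pow comm_P₂_Z comm_P₁_Z P₂_P₁ H_P₂)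
open Cfsg.Agent.FixBN.HeData (p1W p2W zW)
open Cfsg.Agent.FixBN.HeSB (P)
open Cfsg.Agent.H957.T5M
open Cfsg.Agent.H797.T5.HeSev (rw wd_rw)

/-- the pair of two words -/
abbrev M (r s : List Gen) : Prop := MPair 7 (⊤ : Subgroup Cfsg.Spor.He) (wd r) (wd s)

/-- **Certificate for one pair.** -/
theorem of_chk {r s g : List Gen} {N : ℕ} (i : Fin 2058) (hN : Nat.Coprime 7 N)
    (h0 : chkB (g ++ g.reverse) [] = true) (h1 : chkB (pw (r ++ g ++ s ++ g.reverse) N) [] = true)
    (h2 : Nat.beq (act (r ++ g ++ s ++ g.reverse) i) i = false) : M r s := by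
  have e0 : wd g * wd g.reverse = 1 := by
    have h := eq_of_chkB h0
    rw [Cfsg.Agent.FixBN.HeCent.wd_append] at h
    exact h
  have e1 : wd (r ++ g ++ s ++ g.reverse) = wd r * (wd g * wd s * (wd g)⁻¹) := by
    rw [Cfsg.Agent.FixBN.HeCent.wd_append, Cfsg.Agent.FixBN.HeCent.wd_append, Cfsg.Agent.FixBN.HeCent.wd_append,
      eq_inv_of_mul_eq_one_right e0]
    group
  refine mpair_of_prod (g := wd g) hN ?_ ?_
  · rw [← e1, ← wd_pw]
    exact eq_of_chkB h1
  · rw [← e1]
    exact CpAutHe.Seven.ne_one_of_act i h2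

theorem m_z_z : M zW zW := of_chk (g := [.a]) (N := 6) 0 (by decide) (by decide +kernel) (by decide +kernel)
    (by decide +kernel)
theorem m_z_4 : M zW (rw 4) := of_chk (g := [.f]) (N := 6) 0 (by decide) (by decide +kernel) (by decide +kernel)
    (by decide +kernel)
theorem m_z_6 : M zW (rw 6) := of_chk (g := [.d, .f]) (N := 4) 0 (by decide) (by decide +kernel) (by decide +kernel)
    (by decide +kernel)
theorem m_1_1 : M (rw 1) (rw 1) := of_chk (g := [.a]) (N := 6) 0 (by decide) (by decide +kernel) (by decide +kernel)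
    (by decide +kernel)
theorem m_1_4 : M (rw 1) (rw 4) := of_chk (g := [.e, .g]) (N := 6) 0 (by decide) (by decide +kernel) (by decide +kernel)
    (by decide +kernel)
theorem m_1_5 : M (rw 1) (rw 5) := of_chk (g := [.b, .f]) (N := 6) 0 (by decide) (by decide +kernel) (by decide +kernel)
    (by decide +kernel)
theorem m_1_6 : M (rw 1) (rw 6) := of_chk (g := [.c, .e]) (N := 6) 0 (by decide) (by decide +kernel) (by decide +kernel)
    (by decide +kernel)
theorem m_2_2 : M (rw 2) (rw 2) := of_chk (g := [.a]) (N := 6) 0 (by decide) (by decide +kernel) (by decide +kernel)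
    (by decide +kernel)
theorem m_4_4 : M (rw 4) (rw 4) := of_chk (g := [.b, .d]) (N := 4) 0 (by decide) (by decide +kernel) (by decide +kernel)
    (by decide +kernel)
theorem m_4_5 : M (rw 4) (rw 5) := of_chk (g := [.a]) (N := 6) 0 (by decide) (by decide +kernel) (by decide +kernel)
    (by decide +kernel)
theorem m_4_6 : M (rw 4) (rw 6) := of_chk (g := [.c]) (N := 6) 0 (by decide) (by decide +kernel) (by decide +kernel)
    (by decide +kernel)
theorem m_z_1 : M zW (rw 1) := of_chk (g := [.a, .c]) (N := 5) 0 (by decide) (by decide +kernel) (by decide +kernel)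
    (by decide +kernel)
theorem m_z_5 : M zW (rw 5) := of_chk (g := [.c]) (N := 4) 0 (by decide) (by decide +kernel) (by decide +kernel)
    (by decide +kernel)
theorem m_1_2 : M (rw 1) (rw 2) := of_chk (g := [.g]) (N := 4) 0 (by decide) (by decide +kernel) (by decide +kernel)
    (by decide +kernel)
theorem m_2_5 : M (rw 2) (rw 5) := of_chk (g := [.a, .b, .a]) (N := 4) 0 (by decide) (by decide +kernel) (by decide +kernel)
    (by decide +kernel)
theorem m_2_6 : M (rw 2) (rw 6) := of_chk (g := [.c]) (N := 6) 0 (by decide) (by decide +kernel) (by decide +kernel)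
    (by decide +kernel)
theorem m_5_5 : M (rw 5) (rw 5) := of_chk (g := [.f]) (N := 3) 0 (by decide) (by decide +kernel) (by decide +kernel)
    (by decide +kernel)
theorem m_5_6 : M (rw 5) (rw 6) := of_chk (g := [.b]) (N := 4) 0 (by decide) (by decide +kernel) (by decide +kernel)
    (by decide +kernel)
theorem m_6_6 : M (rw 6) (rw 6) := of_chk (g := [.b]) (N := 6) 0 (by decide) (by decide +kernel) (by decide +kernel)
    (by decide +kernel)
theorem m_2_4 : M (rw 2) (rw 4) := of_chk (g := [.c, .e]) (N := 3) 0 (by decide) (by decide +kernel) (by decide +kernel)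
    (by decide +kernel)
theorem m_z_2 : M zW (rw 2) := of_chk (g := [.d, .c]) (N := 6) 0 (by decide) (by decide +kernel) (by decide +kernel)
    (by decide +kernel)

/-- the representatives -/
def reps : List (List Gen) := [zW, rw 1, rw 2, rw 4, rw 5, rw 6]

theorem all : ∀ r ∈ reps, ∀ s ∈ reps, M r s := by
  intro r hr s hs
  simp only [reps, List.mem_cons, List.not_mem_nil, or_false] at hr hs
  rcases hr with rfl | rfl | rfl | rfl | rfl | rfl <;> rcases hs with rfl | rfl | rfl | rfl | rfl | rfl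
  · exact m_z_z
  · exact m_z_1
  · exact m_z_2
  · exact m_z_4
  · exact m_z_5
  · exact m_z_6
  · exact m_z_1.symm
  · exact m_1_1
  · exact m_1_2
  · exact m_1_4
  · exact m_1_5
  · exact m_1_6
  · exact m_z_2.symm
  · exact m_1_2.symm
  · exact m_2_2
  · exact m_2_4
  · exact m_2_5
  · exact m_2_6
  · exact m_z_4.symm
  · exact m_1_4.symm
  · exact m_2_4.symm
  · exact m_4_4
  · exact m_4_5
  · exact m_4_6
  · exact m_z_5.symm
  · exact m_1_5.symm
  · exact m_2_5.symm
  · exact m_4_5.symm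
  · exact m_5_5
  · exact m_5_6
  · exact m_z_6.symm
  · exact m_1_6.symm
  · exact m_2_6.symm
  · exact m_4_6.symm
  · exact m_5_6.symm
  · exact m_6_6

theorem pow_reps : ∀ r ∈ reps, (wd r) ^ 7 = 1 := by
  intro r hr
  simp only [reps, List.mem_cons, List.not_mem_nil, or_false] at hr
  rcases hr with rfl | rfl | rfl | rfl | rfl | rfl
  · exact Z_pow
  all_goals rw [wd_rw]
  · exact HeSev.rep_pow (by norm_num)
  · exact HeSev.rep_pow (by norm_num)
  · exact HeSev.rep_pow (by norm_num)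
  · exact HeSev.rep_pow (by norm_num)
  · exact HeSev.rep_pow (by norm_num)

/-- conjugate to a power of a representative -/
def R (x : Cfsg.Spor.He) : Prop := ∃ r ∈ reps, ∃ (g : Cfsg.Spor.He) (k : ℕ), g * x * g⁻¹ = (wd r) ^ k

theorem R.conj {x g : Cfsg.Spor.He} (h : R (g * x * g⁻¹)) : R x := by
  obtain ⟨r, hr, u, k, e⟩ := h
  refine ⟨r, hr, u * g, k, ?_⟩
  rw [← e]
  group

theorem R_Z {x g : Cfsg.Spor.He} {k : ℕ} (h : g * x * g⁻¹ = Z ^ k) : R x :=
  ⟨zW, by simp [reps], g, k, h⟩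

theorem R_rep {s : ℕ} (hs : s < 7) (x : Cfsg.Spor.He) (k : ℕ) (hx : x = (P₁ * P₂ ^ s) ^ k) : R x := by
  interval_cases s
  · have h := HeSev.conj_of_chk (g := HeSev.g0) (s := 0) (k := 1) (by decide +kernel)
    refine R_Z (g := wd HeSev.g0) (k := 1 * k) ?_
    rw [hx, ← conj_pow, h, ← pow_mul]
  · exact ⟨rw 1, by simp [reps], 1, k, by rw [wd_rw, ← hx]; group⟩
  · exact ⟨rw 2, by simp [reps], 1, k, by rw [wd_rw, ← hx]; group⟩
  · have h := HeSev.conj_of_chk (g := HeSev.g3) (s := 3) (k := 5) (by decide +kernel)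
    refine R_Z (g := wd HeSev.g3) (k := 5 * k) ?_
    rw [hx, ← conj_pow, h, ← pow_mul]
  · exact ⟨rw 4, by simp [reps], 1, k, by rw [wd_rw, ← hx]; group⟩
  · exact ⟨rw 5, by simp [reps], 1, k, by rw [wd_rw, ← hx]; group⟩
  · exact ⟨rw 6, by simp [reps], 1, k, by rw [wd_rw, ← hx]; group⟩

theorem npow_of_zpow {z : Cfsg.Spor.He} (hz : z ^ 7 = 1) (m : ℤ) : ∃ k : ℕ, z ^ m = z ^ k := by
  refine ⟨(m % 7).toNat, ?_⟩
  rw [← zpow_natCast, Int.toNat_of_nonneg (Int.emod_nonneg _ (by norm_num))]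
  have hz7 : z ^ (7 : ℤ) = 1 := by exact_mod_cast hz
  conv_lhs => rw [← Int.emod_add_mul_ediv m 7, zpow_add, zpow_mul, hz7, one_zpow, mul_one]

theorem exists_rep {x : Cfsg.Spor.He} (hx : orderOf x = 7) : R x := by
  have h7 : Fact (Nat.Prime 7) := ⟨by norm_num⟩
  obtain ⟨g, hg⟩ := H533.T5.exists_conj_mem_of_index HeSev.index_P hx
  obtain ⟨a, b, c, e⟩ := HeSev.mem_NF.1 (HeSev.P_le hg)
  apply R.conj (g := g)
  set y := g * x * g⁻¹ with hy
  by_cases ha : 7 ∣ a
  · have ha1 : P₁ ^ a = 1 := by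
      obtain ⟨k, rfl⟩ := ha
      rw [pow_mul, P₁_pow, one_pow]
    rw [ha1, one_mul] at e
    by_cases hb : 7 ∣ b
    · have hb1 : P₂ ^ b = 1 := by
        obtain ⟨k, rfl⟩ := hb
        rw [pow_mul, P₂_pow, one_pow]
      rw [hb1, one_mul] at e
      exact R_Z (g := 1) (k := c) (by rw [e]; group)
    · obtain ⟨u, hu⟩ := Extra.conj_rep' P₂_P₁ HeSev.cZ2 HeSev.cZ1 Z_pow hb c
      rw [← e] at hu
      obtain ⟨m, hm⟩ := mem_zpowers_iff.1 hu
      have h1 : (Cfsg.Agent.FixBN.HeCent.H * u) * y * (Cfsg.Agent.FixBN.HeCent.H * u)⁻¹ = Z ^ m := by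
        have h2 : (Cfsg.Agent.FixBN.HeCent.H * u) * y * (Cfsg.Agent.FixBN.HeCent.H * u)⁻¹ =
            Cfsg.Agent.FixBN.HeCent.H * (u * y * u⁻¹) * Cfsg.Agent.FixBN.HeCent.H⁻¹ := by group
        rw [h2, ← hm, ← conj_zpow, H_P₂, mul_inv_cancel_right]
      obtain ⟨k, hk⟩ := npow_of_zpow Z_pow m
      exact R_Z (h1.trans hk)
  · obtain ⟨s, hs, u, hu⟩ := Extra.conj_rep P₂_P₁ HeSev.cZ2 HeSev.cZ1 P₂_pow Z_pow ha b c
    rw [← e] at hu
    obtain ⟨m, hm⟩ := mem_zpowers_iff.1 hu
    obtain ⟨k, hk⟩ := npow_of_zpow (HeSev.rep_pow hs) m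
    exact R.conj (g := u) (R_rep hs _ k (by rw [← hm, hk]))

theorem allM : AllM 7 Cfsg.Spor.He := by
  intro x y hx hy
  obtain ⟨r, hr, g, k, e⟩ := exists_rep hx
  obtain ⟨s, hs, h, l, e'⟩ := exists_rep hy
  exact mpair_of_rep (by norm_num) hx hy (pow_reps r hr) (pow_reps s hs) e e' (all r hr s hs)

/-- **The middle row of the Held group.** -/
theorem mrow_he {K : Type*} [Group K] [IsSimpleGroup K] (h : Spor.IsoHe K) : MRow 7 K := by
  obtain ⟨e⟩ := h
  refine mrow_of_model ?_ (CpAutHe.Row.autInner (by norm_num) (by norm_num)) allM e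
  intro hc
  apply CpAutHe.Seven.not_comm
  exact ⟨⟨fun a b => e.symm.injective (by rw [map_mul, map_mul]; exact hc.is_comm.comm _ _)⟩⟩

theorem allM_fi24 : AllM 7 Spor.Fi24' := by
  have h7 : Fact (Nat.Prime 7) := ⟨by norm_num⟩
  have hfin : Finite Spor.Fi24' := Schreier.FiTwentyFour.finite
  obtain ⟨ψ, hψ⟩ := H868.HeFi24.exists_embedding
  have hle : ∀ x, ψ x ∈ commutator Spor.Fi24 :=
    Fischer.HeInFi24.he_range_le ψ (commutator Spor.Fi24) Fischer.Fi24Final.index_commutator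
  let φ : Spor.He →* Spor.Fi24' := ψ.codRestrict (commutator Spor.Fi24) hle
  have hφ : Function.Injective φ := fun a b h => hψ (congrArg Subtype.val h)
  have e : Spor.He ≃* φ.range := MonoidHom.ofInjective hφ
  refine AllM.of_sylow (K := φ.range) ?_ (allM.congr e.symm)
  have h1 := φ.range.card_mul_index
  rw [← Nat.card_congr e.toEquiv, FixBN.HeStab.card_he, Schreier.FiTwentyFour.card_eq] at h1
  omega

/-- **The middle row of `Fi24'`.** -/
theorem mrow_fi24 {K : Type*} [Group K] [IsSimpleGroup K] (h : Spor.IsoFi24' K) : MRow 7 K := by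
  obtain ⟨e⟩ := h
  refine mrow_of_model ?_ CpAutFiSeven.autInner allM_fi24 e
  intro hc
  apply Schreier.FiTwentyFour.not_comm
  exact ⟨⟨fun a b => e.symm.injective (by rw [map_mul, map_mul]; exact hc.is_comm.comm _ _)⟩⟩

/-! ### ON -/

open Cfsg.Agent.H797.T5.PslSev in
theorem allM_psl (hcard : Nat.card PS = 1876896) : AllM 7 PS := by
  intro x y hx hy
  obtain ⟨g, a, b, c, h1, e1⟩ := exists_U hcard hx
  obtain ⟨m, a', b', c', h2, e2⟩ := exists_U hcard hy
  refine MPair.conj_left (mem_top g) (MPair.conj_right (mem_top m) ?_)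
  rw [e1, e2]
  obtain ⟨k, hk⟩ := tz_UU h1 h2
  refine ⟨pr k, mem_top _, 1, 1, fun n hn => ?_⟩
  rw [pow_one, pow_one] at hn
  have hn' : pr ((U a b c * (k * U a' b' c' * k⁻¹)) ^ 7 ^ n) = 1 := by
    rw [map_pow, map_mul, map_mul, map_mul, map_inv]
    exact hn
  obtain ⟨r, hr3, hr⟩ := pr_eq_one.1 hn'
  have htr : ∀ (n : ℕ) (M : Matrix (Fin 3) (Fin 3) F), Matrix.trace (M ^ 7 ^ n) = Matrix.trace M ^ 7 ^ n := by
    intro n
    induction n with
    | zero => intro M; simp
    | succ n ih =>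
      intro M
      rw [pow_succ, pow_mul, ZMod.trace_pow_card, ih, ← pow_mul]
  have h3 : Matrix.trace (Matrix.scalar (Fin 3) r : Matrix (Fin 3) (Fin 3) F) = 0 := by
    rw [hr, Matrix.SpecialLinearGroup.coe_pow, htr, hk]
    exact zero_pow (by positivity)
  have h4 : Matrix.trace (Matrix.scalar (Fin 3) r : Matrix (Fin 3) (Fin 3) F) = 3 * r := by
    rw [Matrix.trace_fin_three]
    simp
    ring
  rw [h4] at h3
  have h5 : (3 : F) ≠ 0 := by decide
  rcases mul_eq_zero.1 h3 with h6 | h6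
  · exact h5 h6
  · rw [h6] at hr3
    revert hr3
    decide

theorem allM_on : AllM 7 Spor.ON := by
  have h7 : Fact (Nat.Prime 7) := ⟨by norm_num⟩
  have hfin : Finite Spor.ON := KFacts.ON.Cent.finite_ON
  obtain ⟨N, hN, hi, ⟨e⟩⟩ := SporRec.ONAssembly.exists_normal SporRec.ONLower.ab_ne_one
  have hH := SporRec.ONAssembly.card_H SporRec.ONLower.ab_ne_one
  have h1 := N.card_mul_index
  rw [hi, hH, Nat.card_congr e.toEquiv] at h1
  have hc : Nat.card (Matrix.ProjectiveSpecialLinearGroup (Fin 3) (ZMod 7)) = 1876896 := by omega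
  have h2 := (allM_psl hc).congr e
  have hidx : SporRec.ONAssembly.H.index = 122760 := by
    rw [← ONType.RepOrb.H_eq]
    exact KFacts.ON.Cent.hidx
  have h3 : AllM 7 SporRec.ONAssembly.H := h2.of_sylow (by rw [hi]; norm_num)
  exact h3.of_sylow (by rw [hidx]; norm_num)

/-- **The middle row of the O'Nan group.** -/
theorem mrow_on {K : Type*} [Group K] [IsSimpleGroup K] (h : Spor.IsoON K) : MRow 7 K := by
  obtain ⟨e⟩ := h
  refine mrow_of_model ?_ (CpAutON.Seven.autInner (by norm_num) (by norm_num)) allM_on e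
  intro hc
  apply CpAutON.Seven.not_comm
  exact ⟨⟨fun a b => e.symm.injective (by rw [map_mul, map_mul]; exact hc.is_comm.comm _ _)⟩⟩

end Cfsg.Agent.H797.T5.HeM
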