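import Cfsg.Agent.H106.MTools
import Cfsg.Agent.H533.T5.Tools
import Cfsg.Agent.CpAut.Base

/-!
# Transport of the middle rows (helper797)
-/

set_option autoImplicit false

namespace Cfsg.Agent.H797.T5

open Cfsg.Agent.H957.T5M Cfsg.Agent.H106.MB Subgroup

universe u v

/-- all pairs of elements of order `p` -/
def AllM (p : ℕ) (S : Type*) [Group S] : Prop :=
  ∀ x y : S, orderOf x = p → orderOf y = p → MPair p (⊤ : Subgroup S) x y

theorem AllM.congr {S : Type u} {K : Type v} [Group S] [Group K] {p : ℕ} (h : AllM p S) (e : K ≃* S) :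
    AllM p K := by
  intro x y hx hy
  refine (h (e x) (e y) ?_ ?_).of_hom e.toMonoidHom ?_
  · rw [MulEquiv.orderOf_eq, hx]
  · rw [MulEquiv.orderOf_eq, hy]
  · intro z _
    exact ⟨e.symm z, Subgroup.mem_top _, e.apply_symm_apply z⟩

/-- the row of a group isomorphic to a model -/
theorem mrow_of_model {S : Type u} {K : Type v} [Group S] [Group K] [IsSimpleGroup K] {p : ℕ}
    (hna : ¬ IsMulCommutative K) (hi : CpAut.AutInner p S) (h : AllM p S) (e : K ≃* S) : MRow p K := by
  refine MRow.of_inner hna ?_ (h.congr e)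
  intro a ha
  obtain ⟨g, hg⟩ := (hi.congr e.symm) a ha
  exact ⟨g, hg.symm⟩

/-- pairs from a subgroup of index prime to `p` -/
theorem AllM.of_sylow {G : Type*} [Group G] [Finite G] {p : ℕ} [Fact p.Prime] {K : Subgroup G}
    (hK : ¬ p ∣ K.index) (h : AllM p K) : AllM p G := by
  intro x y hx hy
  obtain ⟨g, hg⟩ := H533.T5.exists_conj_mem_of_index hK hx
  obtain ⟨k, hk⟩ := H533.T5.exists_conj_mem_of_index hK hy
  have ho : ∀ (a z : G), orderOf (a * z * a⁻¹) = orderOf z := by
    intro a z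
    have : a * z * a⁻¹ = MulAut.conj a z := by simp [MulAut.conj_apply]
    rw [this]
    exact orderOf_injective (MulAut.conj a).toMonoidHom (MulAut.conj a).injective z
  have h1 := h ⟨_, hg⟩ ⟨_, hk⟩ (by rw [← Subgroup.orderOf_coe]; simp only; rw [ho, hx])
    (by rw [← Subgroup.orderOf_coe]; simp only; rw [ho, hy])
  have h2 : MPair p (⊤ : Subgroup G) (g * x * g⁻¹) (k * y * k⁻¹) :=
    (h1.of_injective K.subtype K.subtype_injective).mono le_top
  exact MPair.conj_left (mem_top g) (MPair.conj_right (mem_top k) h2)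

/-- a product of order prime to `p` -/
theorem mpair_of_prod {G : Type*} [Group G] {p N : ℕ} {c d g : G} (hN : Nat.Coprime p N)
    (h1 : (c * (g * d * g⁻¹)) ^ N = 1) (h2 : c * (g * d * g⁻¹) ≠ 1) : MPair p (⊤ : Subgroup G) c d := by
  refine ⟨g, mem_top _, 1, 1, fun k hk => h2 ?_⟩
  rw [pow_one, pow_one] at hk
  rw [← orderOf_eq_one_iff]
  have h3 := orderOf_dvd_of_pow_eq_one h1
  have h4 := orderOf_dvd_of_pow_eq_one hk
  exact Nat.dvd_one.1 ((Nat.Coprime.pow_left k hN) ▸ Nat.dvd_gcd h4 h3)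

/-- pairs of powers of conjugates -/
theorem mpair_of_rep {G : Type*} [Group G] {p : ℕ} (hp : p.Prime) {x y r s : G} (hx : orderOf x = p)
    (hy : orderOf y = p) (hr : r ^ p = 1) (hs : s ^ p = 1) {g h : G} {k l : ℕ} (h1 : g * x * g⁻¹ = r ^ k)
    (h2 : h * y * h⁻¹ = s ^ l) (hM : MPair p (⊤ : Subgroup G) r s) : MPair p (⊤ : Subgroup G) x y := by
  have key : ∀ {z t u : G} {m : ℕ}, orderOf z = p → t ^ p = 1 → u * z * u⁻¹ = t ^ m → ∃ j, (u * z * u⁻¹) ^ j = t := by
    intro z t u m hz ht hm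
    have hc : Nat.Coprime m p := by
      rw [Nat.coprime_comm, hp.coprime_iff_not_dvd]
      rintro ⟨c, rfl⟩
      rw [pow_mul, ht, one_pow, mul_inv_eq_one] at hm
      have h3 : z = 1 := by simpa using hm
      rw [h3, orderOf_one] at hz
      exact hp.one_lt.ne hz
    obtain ⟨j, -, hj⟩ := Nat.exists_mul_mod_eq_one_of_coprime hc hp.one_lt
    refine ⟨j, ?_⟩
    rw [hm, ← pow_mul]
    have h3 : m * j = 1 + p * (m * j / p) := by
      have := Nat.mod_add_div (m * j) p
      rw [hj] at this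
      exact this.symm
    rw [h3, pow_add, pow_mul, ht, one_pow, mul_one, pow_one]
  obtain ⟨a, ha⟩ := key hx hr h1
  obtain ⟨b, hb⟩ := key hy hs h2
  refine MPair.conj_left (mem_top g) (MPair.conj_right (mem_top h) (MPair.of_pow a b ?_))
  rw [ha, hb]
  exact hM

end Cfsg.Agent.H797.T5
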