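import Mathlib

/-!
# Elements of an extraspecial group `7^(1+2)` up to conjugacy (helper797)

`q p = p q z`, `z` commutes with `p`, `q`: `conj_rep` : every `p^a q^b z^c` with `r ∤ a` is conjugate to a power of
`p q^s`; for `r ∣ a`, `r ∤ b` to a power of `q`.
-/

set_option autoImplicit false

namespace Cfsg.Agent.H797.T5.Extra

variable {G : Type*} [Group G] {p q z : G}

theorem q_p (h : q * p = p * (q * z)) (h2 : Commute z q) (b : ℕ) :
    q ^ b * p = p * q ^ b * z ^ b := by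
  induction b with
  | zero => simp
  | succ b ih =>
    have e : (z ^ b : G) * q = q * z ^ b := (h2.pow_left b).eq
    calc q ^ (b + 1) * p = q ^ b * (q * p) := by rw [pow_succ, mul_assoc]
      _ = q ^ b * p * (q * z) := by rw [h]; group
      _ = p * q ^ b * (z ^ b * q) * z := by rw [ih]; group
      _ = p * q ^ (b + 1) * z ^ (b + 1) := by rw [e, pow_succ, pow_succ]; group

theorem q_p' (h : q * p = p * (q * z)) (h2 : Commute z q) (h1 : Commute z p) (a b : ℕ) :
    q ^ b * p ^ a = p ^ a * q ^ b * z ^ (a * b) := by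
  induction a with
  | zero => simp
  | succ a ih =>
    have e : (z ^ (a * b) : G) * p = p * z ^ (a * b) := (h1.pow_left _).eq
    calc q ^ b * p ^ (a + 1) = q ^ b * p ^ a * p := by rw [pow_succ, mul_assoc]
      _ = p ^ a * q ^ b * (z ^ (a * b) * p) := by rw [ih]; group
      _ = p ^ a * (q ^ b * p) * z ^ (a * b) := by rw [e]; group
      _ = p ^ a * p * q ^ b * (z ^ b * z ^ (a * b)) := by rw [q_p h h2 b]; group
      _ = p ^ (a + 1) * q ^ b * z ^ ((a + 1) * b) := by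
        rw [← pow_add, ← pow_succ, show b + a * b = (a + 1) * b by ring]

theorem mul_pow' (h : q * p = p * (q * z)) (h2 : Commute z q) (h1 : Commute z p) (s a : ℕ) :
    ∃ e : ℕ, (p * q ^ s) ^ a = p ^ a * q ^ (s * a) * z ^ e := by
  induction a with
  | zero => exact ⟨0, by simp⟩
  | succ a ih =>
    obtain ⟨e, he⟩ := ih
    refine ⟨s * a + e, ?_⟩
    have e1 : (z ^ e : G) * (p * q ^ s) = p * q ^ s * z ^ e := ((h1.pow_left e).mul_right ((h2.pow_left e).pow_right s)).eq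
    have e2 : (z ^ (s * a) : G) * q ^ s = q ^ s * z ^ (s * a) := ((h2.pow_left _).pow_right s).eq
    calc (p * q ^ s) ^ (a + 1) = p ^ a * q ^ (s * a) * (z ^ e * (p * q ^ s)) := by rw [pow_succ, he]; group
      _ = p ^ a * (q ^ (s * a) * p) * q ^ s * z ^ e := by rw [e1]; group
      _ = p ^ a * p * q ^ (s * a) * (z ^ (s * a) * q ^ s) * z ^ e := by rw [q_p h h2 _]; group
      _ = p ^ (a + 1) * (q ^ (s * a) * q ^ s) * (z ^ (s * a) * z ^ e) := by rw [e2, pow_succ]; group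
      _ = p ^ (a + 1) * q ^ (s * (a + 1)) * z ^ (s * a + e) := by
        rw [← pow_add, ← pow_add, show s * a + s = s * (a + 1) by ring]

theorem exists_mul {r : ℕ} [Fact r.Prime] {a : ℕ} (ha : ¬ r ∣ a) (b : ℕ) : ∃ s < r, s * a ≡ b [MOD r] := by
  have ha' : (a : ZMod r) ≠ 0 := fun h => ha ((ZMod.natCast_eq_zero_iff a r).1 h)
  refine ⟨((b : ZMod r) * (a : ZMod r)⁻¹).val, ZMod.val_lt _, ?_⟩
  rw [← ZMod.natCast_eq_natCast_iff]
  push_cast
  rw [ZMod.natCast_zmod_val, mul_assoc, inv_mul_cancel₀ ha', mul_one]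

/-- **Conjugacy to powers of representatives.** -/
theorem conj_rep {r : ℕ} [hr : Fact r.Prime] (h : q * p = p * (q * z)) (h2 : Commute z q) (h1 : Commute z p)
    (hq : q ^ r = 1) (hz : z ^ r = 1) {a : ℕ} (ha : ¬ r ∣ a) (b c : ℕ) :
    ∃ s < r, ∃ u : G, u * (p ^ a * q ^ b * z ^ c) * u⁻¹ ∈ Subgroup.zpowers (p * q ^ s) := by
  obtain ⟨s, hs, hsa⟩ := exists_mul ha b
  obtain ⟨e, he⟩ := mul_pow' h h2 h1 s a
  -- `t a + c ≡ e`
  obtain ⟨t, ht, hta⟩ := exists_mul ha (e + (r - 1) * c)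
  refine ⟨s, hs, q ^ t, ?_⟩
  have key : q ^ t * (p ^ a * q ^ b * z ^ c) * (q ^ t)⁻¹ = (p * q ^ s) ^ a := by
    rw [mul_inv_eq_iff_eq_mul, he]
    have e1 : (z ^ (a * t) : G) * q ^ b = q ^ b * z ^ (a * t) := ((h2.pow_left _).pow_right b).eq
    have e2 : (z ^ e : G) * q ^ t = q ^ t * z ^ e := ((h2.pow_left _).pow_right t).eq
    have e3 : q ^ (s * a) = q ^ b := pow_eq_pow_of_modEq hsa hq
    have e4 : z ^ (a * t + c) = z ^ e := by
      apply pow_eq_pow_of_modEq _ hz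
      have h3 : t * a + c ≡ e + (r - 1) * c + c [MOD r] := hta.add_right c
      have h4 : e + (r - 1) * c + c = e + r * c := by
        have h5 : 1 ≤ r := hr.out.one_le
        obtain ⟨k, rfl⟩ := Nat.exists_eq_add_of_le h5
        simp only [Nat.add_sub_cancel_left]
        ring
      rw [h4] at h3
      rw [mul_comm a t]
      refine h3.trans ?_
      have h5 : r * c ≡ 0 [MOD r] := (Nat.modEq_zero_iff_dvd).2 (Dvd.intro c rfl)
      simp [Nat.ModEq]
    calc q ^ t * (p ^ a * q ^ b * z ^ c) = (q ^ t * p ^ a) * q ^ b * z ^ c := by group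
      _ = p ^ a * q ^ t * (z ^ (a * t) * q ^ b) * z ^ c := by rw [q_p' h h2 h1]; group
      _ = p ^ a * (q ^ t * q ^ b) * (z ^ (a * t) * z ^ c) := by rw [e1]; group
      _ = p ^ a * (q ^ b * q ^ t) * z ^ e := by rw [← pow_add z, e4, ← pow_add, ← pow_add, add_comm t b]
      _ = p ^ a * q ^ (s * a) * (z ^ e * q ^ t) := by rw [e3, e2]; group
      _ = p ^ a * q ^ (s * a) * z ^ e * q ^ t := by group
  rw [key]
  exact Subgroup.npow_mem_zpowers _ a

theorem conj_rep' {r : ℕ} [hr : Fact r.Prime] (h : q * p = p * (q * z)) (h2 : Commute z q) (h1 : Commute z p)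
    (hz : z ^ r = 1) {b : ℕ} (hb : ¬ r ∣ b) (c : ℕ) :
    ∃ u : G, u * (q ^ b * z ^ c) * u⁻¹ ∈ Subgroup.zpowers q := by
  obtain ⟨t, ht, htb⟩ := exists_mul hb c
  refine ⟨p ^ t, ?_⟩
  have key : p ^ t * (q ^ b * z ^ c) * (p ^ t)⁻¹ = q ^ b := by
    rw [mul_inv_eq_iff_eq_mul, q_p' h h2 h1, mul_assoc]
    congr 2
    exact (pow_eq_pow_of_modEq htb hz).symm
  rw [key]
  exact Subgroup.npow_mem_zpowers _ b

end Cfsg.Agent.H797.T5.Extra
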