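import Cfsg.Agent.H797.T5.Cong
import Cfsg.Agent.H797.T5.Extra
import Cfsg.Agent.CpAutHe.Row
import Cfsg.Agent.FixBN.HeSB

/-!
# The weak pair row of the Held group at `p = 7` (helper797)

* `card_Z` : the central elements of a Sylow 7-subgroup have centralizers of order at most 2058;
* `card_le` : the same for all elements of order 7 (the Sylow 7-subgroup is `⟨P₁, P₂, Z⟩ = 7^(1+2)`);
* `he` : the row.
-/

set_option autoImplicit false
set_option maxRecDepth 100000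

namespace Cfsg.Agent.H797.T5.HeSev

open Subgroup Cfsg
open Cfsg.Spor.He (Gen)
open Cfsg.Agent.SporadicB.HePerm hiding wd
open Cfsg.Agent.SporadicB.HePerm (act wd)
open Cfsg.Agent.FixBN.HeStab Cfsg.Agent.KFacts.He.Lv Cfsg.Agent.CpAutHe.Cnt
open Cfsg.Agent.CpAutHe.Bound (sub_of_chk)
open Cfsg.Agent.CpAutHe.Seven (card_cent_le card_cent_conj orderOf_conj')
open Cfsg.Agent.FixBN.HeCent (P₁ P₂ Z P₁_pow P₂_pow Z_pow comm_P₂_Z comm_P₁_Z P₂_P₁ H_P₂)
open Cfsg.Agent.FixBN.HeData (p1W p2W zW)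
open Cfsg.Agent.FixBN.HeSB (P isPGroup_P)

/-! ### The central elements -/

theorem ca : cnt 2058 (tst zW [] [3] 0) = 686 := by decide +kernel

theorem sb : ([1721, 1870, 127, 960].all fun a => elemN a (nx zW [] 0)) = true := by decide +kernel

theorem cb : cnt 2058 (tst zW [1721, 1870, 127, 960] [] 1) = 3 := by decide +kernel

theorem sc : ([1090, 1679, 1746, 1784, 1870, 254, 960, 0].all fun a => elemN a (nx zW (nx zW [] 0) 1)) = true := by
  decide +kernel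

theorem da : cnt 2058 (tst zW [1090, 1679, 1746, 1784, 1870, 254] [] 32) = 1 := by decide +kernel
theorem db : cnt 2058 (tst zW [254, 960, 0, 1090] [] 8) = 1 := by decide +kernel

theorem card_Z : Nat.card ↥(centralizer ({Z} : Set Cfsg.Spor.He)) ≤ 2058 := by
  have hC : ∀ c ∈ centralizer ({wd zW} : Set Cfsg.Spor.He), c * wd zW = wd zW * c := fun c hc =>
    mem_centralizer_singleton_iff.1 hc
  have hC1 : ∀ c ∈ st (centralizer ({wd zW} : Set Cfsg.Spor.He)) 0, c * wd zW = wd zW * c := fun c hc =>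
    hC c (mem_st.1 hc).1
  have hC2 : ∀ c ∈ st (st (centralizer ({wd zW} : Set Cfsg.Spor.He)) 0) 1, c * wd zW = wd zW * c := fun c hc =>
    hC1 c (mem_st.1 hc).1
  have hF1 : ∀ c ∈ st (centralizer ({wd zW} : Set Cfsg.Spor.He)) 0, ∀ f ∈ nx zW [] 0, Fx c f := fun c hc =>
    fx_nx (p := 0) (hC1 c hc) (fun _ hf => absurd hf List.not_mem_nil) (mem_st.1 hc).2
  have hF2 : ∀ c ∈ st (st (centralizer ({wd zW} : Set Cfsg.Spor.He)) 0) 1, ∀ f ∈ nx zW (nx zW [] 0) 1, Fx c f :=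
    fun c hc => fx_nx (p := 1) (hC2 c hc) (hF1 c (mem_st.1 hc).1) (mem_st.1 hc).2
  have hs := sub_of_chk sc
  have h2 : Nat.card ↥(st (st (centralizer ({wd zW} : Set Cfsg.Spor.He)) 0) 1) ≤ 1 := by
    rw [Subgroup.card_le_one_iff_eq_bot, eq_bot_iff_forall]
    intro c hc
    have k := fix_of_one (hC2 c hc) (hF2 c hc)
    have e0 : phi c 0 = 0 := (mem_st.1 (mem_st.1 hc).1).2
    have e1 : phi c 1 = 1 := (mem_st.1 hc).2
    have e2 : phi c 32 = 32 := k 32 [1090, 1679, 1746, 1784, 1870, 254] []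
      (fun a ha => hs (by revert ha; revert a; decide)) da
    have e3 : phi c 8 = 8 := k 8 [254, 960, 0, 1090] []
      (fun a ha => hs (by revert ha; revert a; decide)) db
    have e : ∀ i, phi (1 : Cfsg.Spor.He) i = i := fun i => by rw [map_one]; rfl
    apply eq_of_base
    · rw [e0, e]
    · rw [e1, e]
    · rw [e2, e]
    · rw [e3, e]
  have h1 : Nat.card ↥(st (centralizer ({wd zW} : Set Cfsg.Spor.He)) 0) ≤ 3 * 1 :=
    step hC1 hF1 1 _ [] (sub_of_chk sb) cb h2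
  exact step (F := []) hC (fun _ _ f hf => absurd hf List.not_mem_nil) 0 [] [3] (fun _ h => h) ca h1

/-! ### The representatives -/

/-- an involution commuting with `P₁ P₂^1` -/
def t1 : List Gen :=
  [.e, .d, .g, .d, .c, .f, .d, .c, .d, .f, .d, .c, .d, .c, .f, .d, .e, .d, .e, .d, .a, .b, .a, .b, .a]

/-- an involution commuting with `P₁ P₂^2` -/
def t2 : List Gen :=
  [.g, .d, .f, .b, .c, .d, .c, .b, .d, .c, .d, .g, .c, .e, .b, .c, .d, .e, .b, .c, .d, .e, .b, .c, .d, .e, .b,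
  .c, .d, .e, .b, .c, .d, .e, .b, .c, .d, .e, .b, .d, .e, .f, .d, .c, .d, .c, .f, .d, .e]

/-- an involution commuting with `P₁ P₂^4` -/
def t4 : List Gen :=
  [.a, .d, .b, .e, .d, .c, .b, .e, .d, .c, .b, .e, .d, .c, .b, .e, .d, .c, .b, .e, .d, .c, .b, .e, .d, .c, .b,
  .f, .d, .c, .d, .f, .e, .d, .f, .b, .c, .d, .e, .b, .c, .d, .e, .b, .c, .d, .e, .b, .c, .d, .e, .b, .c, .d,
  .e, .b, .c, .d, .e, .b, .c]

/-- an involution commuting with `P₁ P₂^5` -/
def t5 : List Gen :=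
  [.c, .g, .d, .f, .c, .b, .c, .d, .c, .e, .d, .c, .b, .f, .c, .e, .d, .c]

/-- an involution commuting with `P₁ P₂^6` -/
def t6 : List Gen :=
  [.g, .c, .d, .a, .b, .c, .d, .g, .b, .d, .c, .f, .b, .c, .d, .e, .b, .c, .d, .e, .b, .c, .d, .e, .b, .c, .d,
  .e, .b, .c, .d, .e, .b, .c, .d, .e, .b, .d, .f, .e, .d, .c, .a, .c, .b, .e, .d, .c, .b, .e, .d, .c, .b, .e,
  .d, .c, .b, .e, .d, .c, .b, .e, .d, .c, .b, .e, .d, .c, .b, .f, .a]

/-- an element conjugating `P₁ P₂^0` to a power of `Z` -/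
def g0 : List Gen :=
  [.b, .e, .f, .d, .c, .d, .g, .b, .c, .d, .e, .f, .d, .e]

/-- an element conjugating `P₁ P₂^3` to a power of `Z` -/
def g3 : List Gen :=
  [.e, .f, .d, .c, .d, .c, .b, .c, .d, .c, .f, .e, .a]

/-- the word of `P₁ P₂ ^ s` -/
def rw (s : ℕ) : List Gen := p1W ++ pw p2W s

theorem wd_rw (s : ℕ) : wd (rw s) = P₁ * P₂ ^ s := by
  unfold rw
  rw [Cfsg.Agent.FixBN.HeCent.wd_append, wd_pw]
  rfl

theorem chk7 : ([0, 1, 2, 3, 4, 5, 6].all fun s => chkB (pw (rw s) 7) []) = true := by decide +kernel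

theorem rep_pow {s : ℕ} (hs : s < 7) : (P₁ * P₂ ^ s) ^ 7 = 1 := by
  have h := List.all_eq_true.1 chk7 s (by interval_cases s <;> simp)
  have h2 := eq_of_chkB h
  rw [wd_pw, wd_rw] at h2
  exact h2

/-- An explicit involution commuting with `x`. -/
theorem le_of_inv {x : Cfsg.Spor.He} (hx : orderOf x = 7) {t : List Gen} (i : Fin 2058)
    (h1 : Nat.beq (act t i) i = false) (h2 : chkB (t ++ t) [] = true) (h3 : wd t * x = x * wd t) :
    Nat.card ↥(centralizer ({x} : Set Cfsg.Spor.He)) ≤ 2058 := by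
  refine le_trans (CpAutHe.Seven.card_le hx ?_) (by norm_num)
  have h4 : (wd t) ^ 2 = 1 := by
    have h := eq_of_chkB h2
    rw [Cfsg.Agent.FixBN.HeCent.wd_append] at h
    rw [pow_two, h]
    rfl
  have h5 : wd t ≠ 1 := CpAutHe.Seven.ne_one_of_act i h1
  have h6 : orderOf (wd t) = 2 := orderOf_eq_prime h4 h5
  have h7 : wd t ∈ centralizer ({x} : Set Cfsg.Spor.He) := mem_centralizer_singleton_iff.2 h3
  rw [Nat.not_odd_iff_even, even_iff_two_dvd, ← h6]
  exact Subgroup.orderOf_dvd_natCard _ h7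

theorem le_of_conj {x : Cfsg.Spor.He} (hx : orderOf x = 7) {g : Cfsg.Spor.He} {k : ℕ}
    (h : g * x * g⁻¹ = Z ^ k) : Nat.card ↥(centralizer ({x} : Set Cfsg.Spor.He)) ≤ 2058 := by
  have h7 : Fact (Nat.Prime 7) := ⟨by norm_num⟩
  have hZ : orderOf Z = 7 := by
    refine orderOf_eq_prime Z_pow ?_
    intro h1
    rw [h1, one_pow, mul_inv_eq_one] at h
    have h2 : x = 1 := by simpa using h
    rw [h2, orderOf_one] at hx
    omega
  refine le_trans (card_cent_le hx hZ (u := g) ?_) card_Z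
  rw [h]
  exact Subgroup.npow_mem_zpowers _ k

theorem comm_of_chk {t : List Gen} {s : ℕ} (h : chkB (t ++ rw s) (rw s ++ t) = true) :
    wd t * (P₁ * P₂ ^ s) = P₁ * P₂ ^ s * wd t := by
  have h1 := eq_of_chkB h
  rwa [Cfsg.Agent.FixBN.HeCent.wd_append, Cfsg.Agent.FixBN.HeCent.wd_append, wd_rw] at h1

theorem conj_of_chk {g : List Gen} {s k : ℕ} (h : chkB (g ++ rw s) (pw zW k ++ g) = true) :
    wd g * (P₁ * P₂ ^ s) * (wd g)⁻¹ = Z ^ k := by
  have h1 := eq_of_chkB h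
  rw [Cfsg.Agent.FixBN.HeCent.wd_append, Cfsg.Agent.FixBN.HeCent.wd_append, wd_rw, wd_pw] at h1
  rw [h1, mul_inv_cancel_right]
  rfl

theorem rep_le {s : ℕ} (hs : s < 7) (ho : orderOf (P₁ * P₂ ^ s) = 7) :
    Nat.card ↥(centralizer ({P₁ * P₂ ^ s} : Set Cfsg.Spor.He)) ≤ 2058 := by
  interval_cases s
  · exact le_of_conj ho (conj_of_chk (g := g0) (k := 1) (by decide +kernel))
  · exact le_of_inv ho (t := t1) 5 (by decide +kernel) (by decide +kernel) (comm_of_chk (by decide +kernel))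
  · exact le_of_inv ho (t := t2) 5 (by decide +kernel) (by decide +kernel) (comm_of_chk (by decide +kernel))
  · exact le_of_conj ho (conj_of_chk (g := g3) (k := 5) (by decide +kernel))
  · exact le_of_inv ho (t := t4) 5 (by decide +kernel) (by decide +kernel) (comm_of_chk (by decide +kernel))
  · exact le_of_inv ho (t := t5) 5 (by decide +kernel) (by decide +kernel) (comm_of_chk (by decide +kernel))
  · exact le_of_inv ho (t := t6) 5 (by decide +kernel) (by decide +kernel) (comm_of_chk (by decide +kernel))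

/-! ### The Sylow subgroup -/

theorem cZ1 : Commute Z P₁ := comm_P₁_Z.symm
theorem cZ2 : Commute Z P₂ := comm_P₂_Z.symm

/-- the normal form -/
def NF : Subgroup Cfsg.Spor.He where
  carrier := {x | ∃ a b c : ℕ, x = P₁ ^ a * P₂ ^ b * Z ^ c}
  one_mem' := ⟨0, 0, 0, by simp⟩
  mul_mem' := by
    rintro _ _ ⟨a, b, c, rfl⟩ ⟨a', b', c', rfl⟩
    refine ⟨a + a', b + b', a' * b + c + c', ?_⟩
    have e1 : (Z ^ c : Cfsg.Spor.He) * (P₁ ^ a' * P₂ ^ b') = P₁ ^ a' * P₂ ^ b' * Z ^ c :=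
      ((cZ1.pow_pow c a').mul_right (cZ2.pow_pow c b')).eq
    have e2 : (Z ^ (a' * b) : Cfsg.Spor.He) * P₂ ^ b' = P₂ ^ b' * Z ^ (a' * b) := (cZ2.pow_pow _ b').eq
    calc P₁ ^ a * P₂ ^ b * Z ^ c * (P₁ ^ a' * P₂ ^ b' * Z ^ c')
        = P₁ ^ a * P₂ ^ b * (Z ^ c * (P₁ ^ a' * P₂ ^ b')) * Z ^ c' := by group
      _ = P₁ ^ a * (P₂ ^ b * P₁ ^ a') * P₂ ^ b' * Z ^ c * Z ^ c' := by rw [e1]; group
      _ = P₁ ^ a * P₁ ^ a' * P₂ ^ b * (Z ^ (a' * b) * P₂ ^ b') * Z ^ c * Z ^ c' := by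
        rw [Extra.q_p' P₂_P₁ cZ2 cZ1]; group
      _ = (P₁ ^ a * P₁ ^ a') * (P₂ ^ b * P₂ ^ b') * (Z ^ (a' * b) * Z ^ c * Z ^ c') := by rw [e2]; group
      _ = P₁ ^ (a + a') * P₂ ^ (b + b') * Z ^ (a' * b + c + c') := by
        rw [← pow_add, ← pow_add, ← pow_add, ← pow_add]
  inv_mem' := by
    rintro _ ⟨a, b, c, rfl⟩
    have i1 : ∀ x : Cfsg.Spor.He, x ^ 7 = 1 → ∀ n : ℕ, (x ^ n)⁻¹ = x ^ (6 * n) := by
      intro x hx n
      rw [inv_eq_iff_mul_eq_one, ← pow_add, show n + 6 * n = 7 * n by ring, pow_mul, hx, one_pow]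
    refine ⟨6 * a, 6 * b, 6 * c + 6 * a * (6 * b), ?_⟩
    rw [mul_inv_rev, mul_inv_rev, i1 _ P₁_pow, i1 _ P₂_pow, i1 _ Z_pow]
    have e1 : (Z ^ (6 * c) : Cfsg.Spor.He) * (P₂ ^ (6 * b) * P₁ ^ (6 * a)) =
        P₂ ^ (6 * b) * P₁ ^ (6 * a) * Z ^ (6 * c) := ((cZ2.pow_pow _ _).mul_right (cZ1.pow_pow _ _)).eq
    rw [e1, Extra.q_p' P₂_P₁ cZ2 cZ1, mul_assoc _ (Z ^ _) (Z ^ _), ← pow_add, add_comm (6 * c)]

theorem mem_NF {x : Cfsg.Spor.He} : x ∈ NF ↔ ∃ a b c : ℕ, x = P₁ ^ a * P₂ ^ b * Z ^ c := Iff.rfl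

theorem P_le : P ≤ NF := by
  unfold P
  rw [sup_le_iff, sup_le_iff, zpowers_le, zpowers_le, zpowers_le]
  exact ⟨⟨1, 0, 0, by simp⟩, ⟨0, 1, 0, by simp⟩, ⟨0, 0, 1, by simp⟩⟩

theorem Z_ne : Z ≠ 1 := CpAutHe.Seven.ne_one_of_act 0 (by decide +kernel)

theorem card_P : Nat.card P = 343 := by
  have h7 : Fact (Nat.Prime 7) := ⟨by norm_num⟩
  obtain ⟨n, hn⟩ := IsPGroup.iff_card.mp isPGroup_P
  have hd := P.card_subgroup_dvd_card
  rw [hn, card_he] at hd
  have hn3 : n ≤ 3 := by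
    by_contra hcon
    have h1 : 7 ^ 4 ∣ 4030387200 := (pow_dvd_pow 7 (by omega)).trans hd
    exact absurd h1 (by norm_num)
  have m1 : P₁ ∈ P := mem_sup_left (mem_zpowers _)
  have m2 : P₂ ∈ P := mem_sup_right (mem_sup_left (mem_zpowers _))
  have hnc : ¬ ∀ a b : P, a * b = b * a := by
    intro h
    have h1 : P₂ * P₁ = P₁ * P₂ := congrArg Subtype.val (h ⟨P₂, m2⟩ ⟨P₁, m1⟩)
    rw [P₂_P₁, ← mul_assoc] at h1
    exact Z_ne (mul_eq_left.1 h1)
  interval_cases n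
  · exfalso
    apply hnc
    have : Subsingleton P := by
      rw [pow_zero] at hn
      exact (Nat.card_eq_one_iff_unique.mp hn).1
    exact fun a b => Subsingleton.elim _ _
  · exfalso
    apply hnc
    have hcyc : IsCyclic P := isCyclic_of_prime_card (p := 7) (by simpa using hn)
    letI := IsCyclic.commGroup (α := P)
    exact fun a b => mul_comm a b
  · exfalso
    apply hnc
    exact fun a b => (IsPGroup.isMulCommutative_of_card_eq_prime_sq hn).1.1 a b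
  · rw [hn]; norm_num

theorem index_P : ¬ 7 ∣ P.index := by
  have h := P.card_mul_index
  rw [card_P, card_he] at h
  omega

/-- **The centralizers of the elements of order 7.** -/
theorem card_le {x : Cfsg.Spor.He} (hx : orderOf x = 7) :
    Nat.card ↥(centralizer ({x} : Set Cfsg.Spor.He)) ≤ 2058 := by
  have h7 : Fact (Nat.Prime 7) := ⟨by norm_num⟩
  obtain ⟨g, hg⟩ := H533.T5.exists_conj_mem_of_index index_P hx
  obtain ⟨a, b, c, e⟩ := mem_NF.1 (P_le hg)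
  rw [← card_cent_conj g x]
  have ho : orderOf (g * x * g⁻¹) = 7 := by rw [orderOf_conj', hx]
  set y := g * x * g⁻¹ with hy
  by_cases ha : 7 ∣ a
  · have ha1 : P₁ ^ a = 1 := by
      obtain ⟨k, rfl⟩ := ha
      rw [pow_mul, P₁_pow, one_pow]
    rw [ha1, one_mul] at e
    by_cases hb : 7 ∣ b
    · have hb1 : P₂ ^ b = 1 := by
        obtain ⟨k, rfl⟩ := hb
        rw [pow_mul, P₂_pow, one_pow]
      rw [hb1, one_mul] at e
      exact le_of_conj ho (g := 1) (k := c) (by rw [e]; group)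
    · obtain ⟨u, hu⟩ := Extra.conj_rep' P₂_P₁ cZ2 cZ1 Z_pow hb c
      rw [← e] at hu
      obtain ⟨m, hm⟩ := mem_zpowers_iff.1 hu
      have h1 : (Cfsg.Agent.FixBN.HeCent.H * u) * y * (Cfsg.Agent.FixBN.HeCent.H * u)⁻¹ = Z ^ m := by
        have h2 : (Cfsg.Agent.FixBN.HeCent.H * u) * y * (Cfsg.Agent.FixBN.HeCent.H * u)⁻¹ =
            Cfsg.Agent.FixBN.HeCent.H * (u * y * u⁻¹) * Cfsg.Agent.FixBN.HeCent.H⁻¹ := by group
        rw [h2, ← hm, ← conj_zpow, H_P₂, mul_inv_cancel_right]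
      obtain ⟨k, hk⟩ : ∃ k : ℕ, Z ^ m = Z ^ k := by
        refine ⟨(m % 7).toNat, ?_⟩
        rw [← zpow_natCast, Int.toNat_of_nonneg (Int.emod_nonneg _ (by norm_num))]
        have hz7 : Z ^ (7 : ℤ) = 1 := by exact_mod_cast Z_pow
        conv_lhs => rw [← Int.emod_add_mul_ediv m 7, zpow_add, zpow_mul, hz7, one_zpow, mul_one]
      exact le_of_conj ho (h1.trans hk)
  · obtain ⟨s, hs, u, hu⟩ := Extra.conj_rep P₂_P₁ cZ2 cZ1 P₂_pow Z_pow ha b c
    rw [← e] at hu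
    have hs1 : P₁ * P₂ ^ s ≠ 1 := by
      intro h1
      rw [h1, zpowers_one_eq_bot, mem_bot, mul_inv_eq_one] at hu
      have h2 : y = 1 := by simpa using hu
      rw [h2, orderOf_one] at ho
      omega
    have hso : orderOf (P₁ * P₂ ^ s) = 7 := orderOf_eq_prime (rep_pow hs) hs1
    exact (card_cent_le ho hso hu).trans (rep_le hs hso)

theorem allPairs : AllPairs 7 Cfsg.Spor.He := by
  have h7 : Fact (Nat.Prime 7) := ⟨by norm_num⟩
  intro x y hx hy
  refine H533.T5.wpair_of_count' (n := 3) (by rw [card_he]; norm_num) ?_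
  rw [card_he]
  have h1 := Nat.mul_le_mul (card_le hx) (card_le hy)
  calc _ ≤ 2058 * 2058 * 7 ^ 3 := Nat.mul_le_mul_right _ h1
    _ < 4030387200 := by norm_num

/-- **The row of the Held group.** -/
theorem he (K : Type*) [Group K] [Finite K] [IsSimpleGroup K] (h : Spor.IsoHe K) : H533.T5.WRow 7 K := by
  obtain ⟨e⟩ := h
  refine row_of_model ?_ (CpAutHe.Row.autInner (by norm_num) (by norm_num)) allPairs e
  intro hc
  apply CpAutHe.Seven.not_comm
  exact ⟨⟨fun a b => e.symm.injective (by rw [map_mul, map_mul]; exact hc.is_comm.comm _ _)⟩⟩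

end Cfsg.Agent.H797.T5.HeSev
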