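import Cfsg.Agent.H533.T5.SporDefs
import Cfsg.Agent.CpAut.Base

/-!
# Transport of the weak rows (helper797)

* `WPair.mulEquiv`, `WRow.of_pairs` : a group isomorphic to a model, all automorphisms of order `p` inner, pairs of
  the model.
-/

set_option autoImplicit false

namespace Cfsg.Agent.H797.T5

open Cfsg.Agent.H533.T5 Subgroup

universe u v

/-- all pairs of elements of order `p` -/
def AllPairs (p : ℕ) (S : Type*) [Group S] : Prop :=
  ∀ x y : S, orderOf x = p → orderOf y = p → WPair p (⊤ : Subgroup S) x y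

theorem AllPairs.congr {S : Type u} {K : Type v} [Group S] [Group K] {p : ℕ} (h : AllPairs p S) (e : K ≃* S) :
    AllPairs p K := by
  intro x y hx hy
  refine (h (e x) (e y) ?_ ?_).of_hom e.toMonoidHom ?_
  · rw [MulEquiv.orderOf_eq, hx]
  · rw [MulEquiv.orderOf_eq, hy]
  · intro z _
    exact ⟨e.symm z, Subgroup.mem_top _, e.apply_symm_apply z⟩

/-- the row of a group isomorphic to a model -/
theorem row_of_model {S : Type u} {K : Type v} [Group S] [Group K] [IsSimpleGroup K] {p : ℕ}
    (hna : ¬ IsMulCommutative K) (hi : CpAut.AutInner p S) (h : AllPairs p S) (e : K ≃* S) : WRow p K := by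
  refine WRow.of_inner hna ?_ (h.congr e)
  intro a ha
  obtain ⟨g, hg⟩ := (hi.congr e.symm) a ha
  exact ⟨g, hg.symm⟩

/-- pairs from a subgroup of index prime to `p` -/
theorem AllPairs.of_sylow {G : Type*} [Group G] [Finite G] {p : ℕ} [Fact p.Prime] {K : Subgroup G}
    (hK : ¬ p ∣ K.index) (h : AllPairs p K) : AllPairs p G :=
  fun _ _ hx hy => WPair.of_sylow hK h hx hy

end Cfsg.Agent.H797.T5
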