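import Cfsg.Agent.H797.T5.Cong

/-!
# The pairs of elements of order 7 of `PSL₃(7)` (helper797)

`exists_trace` : unipotent `X, Y ≠ 1` of `SL₃(7)` have conjugates with product of trace `0`; such a product is not a
7-element modulo the centre.
-/

set_option autoImplicit false

namespace Cfsg.Agent.H797.T5.PslSev

open Subgroup Matrix
open scoped MatrixGroups

instance h7 : Fact (Nat.Prime 7) := ⟨by norm_num⟩

/-- the field -/
abbrev F : Type := ZMod 7

/-- the group -/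
abbrev S : Type := Matrix.SpecialLinearGroup (Fin 3) F

/-- upper unitriangular matrices -/
def U (a b c : F) : S := ⟨!![1, a, c; 0, 1, b; 0, 0, 1], by simp [Matrix.det_fin_three]⟩

/-- lower unitriangular matrices -/
def L (d e f : F) : S := ⟨!![1, 0, 0; d, 1, 0; f, e, 1], by simp [Matrix.det_fin_three]⟩

theorem U_mul (a b c a' b' c' : F) : U a b c * U a' b' c' = U (a + a') (b + b') (c + c' + a * b') := by
  apply Subtype.ext
  change !![1, a, c; 0, 1, b; 0, 0, 1] * !![1, a', c'; 0, 1, b'; 0, 0, 1] = !![1, a + a', c + c' + a * b'; 0, 1, b + b'; 0, 0, 1]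
  ext i j
  fin_cases i <;> fin_cases j <;> simp [Matrix.mul_apply, Fin.sum_univ_three] <;> ring

theorem U_one : U 0 0 0 = 1 := by
  apply Subtype.ext
  change !![1, (0 : F), 0; 0, 1, 0; 0, 0, 1] = 1
  ext i j
  fin_cases i <;> fin_cases j <;> simp

theorem U_inv (a b c : F) : (U a b c)⁻¹ = U (-a) (-b) (-c + a * b) := by
  rw [inv_eq_iff_mul_eq_one, U_mul, ← U_one]
  congr 1 <;> ring

theorem L_mul (d e f d' e' f' : F) : L d e f * L d' e' f' = L (d + d') (e + e') (f + f' + e * d') := by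
  apply Subtype.ext
  change !![1, 0, 0; d, 1, 0; f, e, 1] * !![1, 0, 0; d', 1, 0; f', e', 1] =
    !![1, 0, 0; d + d', 1, 0; f + f' + e * d', e + e', 1]
  ext i j
  fin_cases i <;> fin_cases j <;> simp [Matrix.mul_apply, Fin.sum_univ_three] <;> ring

theorem L_one : L 0 0 0 = 1 := by
  apply Subtype.ext
  change !![1, (0 : F), 0; 0, 1, 0; 0, 0, 1] = 1
  ext i j
  fin_cases i <;> fin_cases j <;> simp

theorem L_inv (d e f : F) : (L d e f)⁻¹ = L (-d) (-e) (-f + e * d) := by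
  rw [inv_eq_iff_mul_eq_one, L_mul, ← L_one]
  congr 1 <;> ring

theorem trace_UL (a b c d e f : F) : Matrix.trace ((U a b c * L d e f : S) : Matrix (Fin 3) (Fin 3) F) =
    3 + a * d + b * e + c * f := by
  change Matrix.trace (!![1, a, c; 0, 1, b; 0, 0, 1] * !![1, 0, 0; d, 1, 0; f, e, 1]) = _
  rw [Matrix.trace_fin_three]
  simp [Matrix.mul_apply, Fin.sum_univ_three]
  ring

/-- the Weyl element -/
def w : S := ⟨!![0, 0, 1; 0, -1, 0; 1, 0, 0], by simp [Matrix.det_fin_three]⟩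

theorem w_U (a b c : F) : w * U a b c = L (-b) (-a) c * w := by
  apply Subtype.ext
  change !![0, 0, 1; 0, -1, 0; 1, 0, 0] * !![1, a, c; 0, 1, b; 0, 0, 1] =
    !![1, 0, 0; -b, 1, 0; c, -a, 1] * !![0, 0, 1; 0, -1, 0; 1, 0, 0]
  ext i j
  fin_cases i <;> fin_cases j <;> simp [Matrix.mul_apply, Fin.sum_univ_three]

/-- conjugates with product of trace zero -/
def TZ (X Y : S) : Prop := ∃ g : S, Matrix.trace ((X * (g * Y * g⁻¹) : S) : Matrix (Fin 3) (Fin 3) F) = 0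

theorem trace_conj (k M : S) : Matrix.trace ((k * M * k⁻¹ : S) : Matrix (Fin 3) (Fin 3) F) =
    Matrix.trace (M : Matrix (Fin 3) (Fin 3) F) := by
  rw [Matrix.SpecialLinearGroup.coe_mul, Matrix.trace_mul_comm, ← Matrix.SpecialLinearGroup.coe_mul, ← mul_assoc,
    inv_mul_cancel, one_mul]

theorem TZ.of_conj {X Y : S} (k m : S) (h : TZ (k * X * k⁻¹) (m * Y * m⁻¹)) : TZ X Y := by
  obtain ⟨g, hg⟩ := h
  have e : k * (X * ((k⁻¹ * g * m) * Y * (k⁻¹ * g * m)⁻¹)) * k⁻¹ = k * X * k⁻¹ * (g * (m * Y * m⁻¹) * g⁻¹) := by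
    group
  refine ⟨k⁻¹ * g * m, ?_⟩
  rw [← trace_conj k, e]
  exact hg

theorem conj_U (s t a b c : F) : U s t 0 * U a b c * (U s t 0)⁻¹ = U a b (c + s * b - t * a) := by
  rw [U_inv, U_mul, U_mul]
  congr 1 <;> ring

theorem conj_L (s t d e f : F) : L s t 0 * L d e f * (L s t 0)⁻¹ = L d e (f + t * d - s * e) := by
  rw [L_inv, L_mul, L_mul]
  congr 1 <;> ring

theorem exists_c {a b : F} (h : ¬ (a = 0 ∧ b = 0)) (c c' : F) : ∃ k : S, k * U a b c * k⁻¹ = U a b c' := by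
  by_cases hb : b = 0
  · have ha : a ≠ 0 := fun ha => h ⟨ha, hb⟩
    refine ⟨U 0 ((c - c') / a) 0, ?_⟩
    rw [conj_U]
    congr 1
    field_simp
    ring
  · refine ⟨U ((c' - c) / b) 0 0, ?_⟩
    rw [conj_U]
    congr 1
    field_simp
    ring

theorem exists_f {d e : F} (h : ¬ (d = 0 ∧ e = 0)) (f f' : F) : ∃ k : S, k * L d e f * k⁻¹ = L d e f' := by
  by_cases he : e = 0
  · have hd : d ≠ 0 := fun hd => h ⟨hd, he⟩
    refine ⟨L 0 ((f' - f) / d) 0, ?_⟩
    rw [conj_L]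
    congr 1
    field_simp
    ring
  · refine ⟨L ((f - f') / e) 0 0, ?_⟩
    rw [conj_L]
    congr 1
    field_simp
    ring

/-- the diagonal element -/
def dg (t : F) (ht : t ≠ 0) : S := ⟨!![1, 0, 0; 0, t⁻¹, 0; 0, 0, t], by simp [Matrix.det_fin_three, ht]⟩

theorem dg_L (t : F) (ht : t ≠ 0) (f : F) : dg t ht * L 0 0 f = L 0 0 (t * f) * dg t ht := by
  apply Subtype.ext
  change !![1, 0, 0; 0, t⁻¹, 0; 0, 0, t] * !![1, 0, 0; 0, 1, 0; f, 0, 1] =
    !![1, 0, 0; 0, 1, 0; t * f, 0, 1] * !![1, 0, 0; 0, t⁻¹, 0; 0, 0, t]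
  ext i j
  fin_cases i <;> fin_cases j <;> simp [Matrix.mul_apply, Fin.sum_univ_three]

theorem TZ_of_eq {X Y : S} (h : Matrix.trace ((X * Y : S) : Matrix (Fin 3) (Fin 3) F) = 0) : TZ X Y :=
  ⟨1, by simpa using h⟩

theorem tz_UL {a b c d e f : F} (h1 : ¬ (a = 0 ∧ b = 0 ∧ c = 0)) (h2 : ¬ (d = 0 ∧ e = 0 ∧ f = 0)) :
    TZ (U a b c) (L d e f) := by
  by_cases hab : a = 0 ∧ b = 0
  · obtain ⟨rfl, rfl⟩ := hab
    have hc : c ≠ 0 := fun h => h1 ⟨rfl, rfl, h⟩
    by_cases hde : d = 0 ∧ e = 0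
    · obtain ⟨rfl, rfl⟩ := hde
      have hf : f ≠ 0 := fun h => h2 ⟨rfl, rfl, h⟩
      have h3 : (-3 : F) ≠ 0 := by decide
      have ht : (-3 / (c * f) : F) ≠ 0 := div_ne_zero h3 (mul_ne_zero hc hf)
      refine TZ.of_conj 1 (dg _ ht) (TZ_of_eq ?_)
      rw [one_mul, inv_one, mul_one, dg_L, mul_inv_cancel_right, trace_UL]
      field_simp
      ring
    · obtain ⟨k, hk⟩ := exists_f hde f (-3 / c)
      refine TZ.of_conj 1 k (TZ_of_eq ?_)
      rw [one_mul, inv_one, mul_one, hk, trace_UL]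
      field_simp
      ring
  · by_cases hde : d = 0 ∧ e = 0
    · obtain ⟨rfl, rfl⟩ := hde
      have hf : f ≠ 0 := fun h => h2 ⟨rfl, rfl, h⟩
      obtain ⟨k, hk⟩ := exists_c hab c (-3 / f)
      refine TZ.of_conj k 1 (TZ_of_eq ?_)
      rw [one_mul, inv_one, mul_one, hk, trace_UL]
      field_simp
      ring
    · obtain ⟨k, hk⟩ := exists_c hab c (-(3 + a * d + b * e))
      obtain ⟨m, hm⟩ := exists_f hde f 1
      refine TZ.of_conj k m (TZ_of_eq ?_)
      rw [hk, hm, trace_UL]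
      ring

theorem tz_UU {a b c a' b' c' : F} (h1 : ¬ (a = 0 ∧ b = 0 ∧ c = 0)) (h2 : ¬ (a' = 0 ∧ b' = 0 ∧ c' = 0)) :
    TZ (U a b c) (U a' b' c') := by
  refine TZ.of_conj 1 w ?_
  rw [one_mul, inv_one, mul_one, w_U, mul_inv_cancel_right]
  refine tz_UL h1 ?_
  rintro ⟨h3, h4, h5⟩
  exact h2 ⟨neg_eq_zero.1 h4, neg_eq_zero.1 h3, h5⟩

/-! ### `PSL₃(7)` -/

/-- `PSL₃(7)` -/
abbrev PS : Type := Matrix.ProjectiveSpecialLinearGroup (Fin 3) F

/-- the projection -/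
def pr : S →* PS := QuotientGroup.mk' (center S)

theorem pr_surjective : Function.Surjective pr := QuotientGroup.mk'_surjective _

theorem pr_eq_one {M : S} : pr M = 1 ↔ ∃ r : F, r ^ 3 = 1 ∧ Matrix.scalar (Fin 3) r = (M : Matrix (Fin 3) (Fin 3) F) := by
  change (QuotientGroup.mk' (center S)) M = 1 ↔ _
  rw [← MonoidHom.mem_ker, QuotientGroup.ker_mk', Matrix.SpecialLinearGroup.mem_center_iff]
  simp

/-- the unitriangular group -/
def UT : Subgroup S where
  carrier := {x | ∃ a b c : F, x = U a b c}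
  one_mem' := ⟨0, 0, 0, U_one.symm⟩
  mul_mem' := by
    rintro _ _ ⟨a, b, c, rfl⟩ ⟨a', b', c', rfl⟩
    exact ⟨_, _, _, U_mul _ _ _ _ _ _⟩
  inv_mem' := by
    rintro _ ⟨a, b, c, rfl⟩
    exact ⟨_, _, _, U_inv _ _ _⟩

theorem U_inj {a b c a' b' c' : F} (h : U a b c = U a' b' c') : a = a' ∧ b = b' ∧ c = c' := by
  have h1 := congrArg (fun M : S => (M : Matrix (Fin 3) (Fin 3) F)) h
  have h2 : !![1, a, c; 0, 1, b; 0, 0, 1] = !![1, a', c'; 0, 1, b'; 0, 0, 1] := h1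
  refine ⟨?_, ?_, ?_⟩
  · simpa using congrFun (congrFun h2 0) 1
  · simpa using congrFun (congrFun h2 1) 2
  · simpa using congrFun (congrFun h2 0) 2

theorem pr_U {a b c : F} (h : pr (U a b c) = 1) : a = 0 ∧ b = 0 ∧ c = 0 := by
  obtain ⟨r, -, hr⟩ := pr_eq_one.1 h
  have h2 : Matrix.scalar (Fin 3) r = !![1, a, c; 0, 1, b; 0, 0, 1] := hr
  refine ⟨?_, ?_, ?_⟩
  · simpa using (congrFun (congrFun h2 0) 1).symm
  · simpa using (congrFun (congrFun h2 1) 2).symm
  · simpa using (congrFun (congrFun h2 0) 2).symm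

theorem card_map : Nat.card (UT.map pr) = 343 := by
  have h1 : Nat.card (UT.map pr) = Nat.card (F × F × F) := by
    refine (Nat.card_congr (Equiv.ofBijective (fun p : F × F × F =>
      (⟨pr (U p.1 p.2.1 p.2.2), _, ⟨p.1, p.2.1, p.2.2, rfl⟩, rfl⟩ : UT.map pr)) ⟨?_, ?_⟩)).symm
    · rintro ⟨a, b, c⟩ ⟨a', b', c'⟩ h
      have h2 : pr (U a b c) = pr (U a' b' c') := congrArg Subtype.val h
      have h3 : pr ((U a b c)⁻¹ * U a' b' c') = 1 := by rw [map_mul, map_inv, h2, inv_mul_cancel]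
      rw [U_inv, U_mul] at h3
      obtain ⟨h4, h5, h6⟩ := pr_U h3
      have e1 : a' = a := by linear_combination h4
      have e2 : b' = b := by linear_combination h5
      subst e1 e2
      have e3 : c' = c := by linear_combination h6
      rw [e3]
    · rintro ⟨_, _, ⟨a, b, c, rfl⟩, rfl⟩
      exact ⟨(a, b, c), rfl⟩
  rw [h1, Nat.card_prod, Nat.card_prod, Nat.card_zmod]

variable (hcard : Nat.card PS = 1876896)

include hcard

theorem exists_U {x : PS} (hx : orderOf x = 7) : ∃ (g : PS) (a b c : F), ¬ (a = 0 ∧ b = 0 ∧ c = 0) ∧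
    g * x * g⁻¹ = pr (U a b c) := by
  have hfin : Finite PS := Nat.finite_of_card_ne_zero (by rw [hcard]; norm_num)
  have hi : ¬ 7 ∣ (UT.map pr).index := by
    have h1 := (UT.map pr).card_mul_index
    rw [card_map, hcard] at h1
    omega
  obtain ⟨g, hg⟩ := H533.T5.exists_conj_mem_of_index hi hx
  obtain ⟨_, ⟨a, b, c, rfl⟩, e⟩ := hg
  refine ⟨g, a, b, c, ?_, e.symm⟩
  rintro ⟨rfl, rfl, rfl⟩
  rw [U_one, map_one] at e
  have h2 : x = 1 := by
    have h3 := e.symm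
    rw [mul_inv_eq_one] at h3
    simpa using h3
  rw [h2, orderOf_one] at hx
  omega

/-- **All pairs of elements of order 7 of `PSL₃(7)`.** -/
theorem allPairs : AllPairs 7 PS := by
  intro x y hx hy
  obtain ⟨g, a, b, c, h1, e1⟩ := exists_U hcard hx
  obtain ⟨m, a', b', c', h2, e2⟩ := exists_U hcard hy
  refine H533.T5.WPair.conj_left (mem_top g) (H533.T5.WPair.conj_right (mem_top m) ?_)
  rw [e1, e2]
  obtain ⟨k, hk⟩ := tz_UU h1 h2
  refine ⟨pr k, mem_top _, fun hP => ?_⟩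
  have hmem : pr (U a b c * (k * U a' b' c' * k⁻¹)) ∈
      Subgroup.closure ({pr (U a b c), pr k * pr (U a' b' c') * (pr k)⁻¹} : Set PS) := by
    rw [map_mul, map_mul, map_mul, map_inv]
    exact mul_mem (Subgroup.subset_closure (by simp)) (Subgroup.subset_closure (by simp))
  obtain ⟨n, hn⟩ := hP ⟨_, hmem⟩
  have hn' : pr ((U a b c * (k * U a' b' c' * k⁻¹)) ^ 7 ^ n) = 1 := by
    rw [map_pow]
    exact congrArg Subtype.val hn
  obtain ⟨r, hr3, hr⟩ := pr_eq_one.1 hn'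
  have htr : ∀ (n : ℕ) (M : Matrix (Fin 3) (Fin 3) F), Matrix.trace (M ^ 7 ^ n) = Matrix.trace M ^ 7 ^ n := by
    intro n
    induction n with
    | zero => intro M; simp
    | succ n ih =>
      intro M
      rw [pow_succ, pow_mul, ZMod.trace_pow_card, ih, ← pow_mul]
  have h3 : Matrix.trace (Matrix.scalar (Fin 3) r : Matrix (Fin 3) (Fin 3) F) = 0 := by
    rw [hr, Matrix.SpecialLinearGroup.coe_pow, htr, hk]
    exact zero_pow (by positivity)
  have h4 : Matrix.trace (Matrix.scalar (Fin 3) r : Matrix (Fin 3) (Fin 3) F) = 3 * r := by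
    rw [Matrix.trace_fin_three]
    simp
    ring
  rw [h4] at h3
  have h5 : (3 : F) ≠ 0 := by decide
  rcases mul_eq_zero.1 h3 with h6 | h6
  · exact h5 h6
  · rw [h6] at hr3
    revert hr3
    decide

end Cfsg.Agent.H797.T5.PslSev
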